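import Mathlib.CategoryTheory.Subobject.ArtinianObject
import Mathlib.CategoryTheory.Elements
import Mathlib.CategoryTheory.Limits.Types.Filtered
import Mathlib.CategoryTheory.Limits.Types.Equalizers
import Mathlib.CategoryTheory.Limits.Types.Products
import Mathlib.CategoryTheory.Limits.FunctorCategory.Basic
import Mathlib.CategoryTheory.Limits.Shapes.FiniteLimits
import Mathlib.CategoryTheory.Limits.Preserves.Finite
import Mathlib.CategoryTheory.Limits.Preserves.Shapes.Equalizers
import Mathlib.CategoryTheory.Limits.Preserves.Shapes.BinaryProducts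
import Mathlib.CategoryTheory.Limits.Preserves.Shapes.Terminal
import Mathlib.CategoryTheory.Yoneda

/-! Left exact functors on categories with artinian objects are strictly pro-representable. -/

set_option autoImplicit false

universe u

open CategoryTheory CategoryTheory.Limits Opposite

namespace Groth.Agent.FGA50

variable {C : Type u} [SmallCategory C] [HasFiniteLimits C] (F : C ⥤ Type u) [PreservesFiniteLimits F]

/-- An element which lifts to no proper subobject. -/
def IsMinimal : ObjectProperty F.Elements := fun e =>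
  ∀ (Y : C) (i : Y ⟶ e.1) [Mono i] (y : F.obj Y), F.map i y = e.2 → IsIso i

theorem exists_lift_equalizer {X Y : C} (a b : X ⟶ Y) (x : F.obj X) (h : F.map a x = F.map b x) :
    ∃ z, F.map (equalizer.ι a b) z = x := by
  obtain ⟨z, hz, -⟩ := Types.unique_of_type_equalizer _ _
    (isLimitForkMapOfIsLimit F (equalizer.condition a b) (equalizerIsEqualizer a b)) x h
  exact ⟨z, hz⟩

variable {F}

theorem IsMinimal.hom_eq {e : F.Elements} (he : IsMinimal F e) {Y : C} (a b : e.1 ⟶ Y)
    (h : F.map a e.2 = F.map b e.2) : a = b := by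
  obtain ⟨z, hz⟩ := exists_lift_equalizer F a b e.2 h
  have := he _ (equalizer.ι a b) z hz
  exact (cancel_epi (equalizer.ι a b)).1 (equalizer.condition a b)

omit [PreservesFiniteLimits F] in
theorem IsMinimal.epi {e e' : F.Elements} (he' : IsMinimal F e') (f : e ⟶ e') : Epi f.val := by
  refine ⟨fun {Z} a b h => ?_⟩
  have := he' _ (equalizer.ι a b) (F.map (equalizer.lift f.val h) e.2) (by
    rw [← Functor.map_comp_apply, equalizer.lift_ι]
    exact f.2)
  exact (cancel_epi (equalizer.ι a b)).1 (equalizer.condition a b)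

variable (hart : ∀ X : C, IsArtinianObject X)

include hart in
omit [HasFiniteLimits C] [PreservesFiniteLimits F] in
theorem exists_minimal {X : C} (x : F.obj X) :
    ∃ e : F.Elements, IsMinimal F e ∧ ∃ f : e.1 ⟶ X, F.map f e.2 = x := by
  have := hart X
  let s : Set (Subobject X) := {P | ∃ p, F.map P.arrow p = x}
  have hs : s.Nonempty := ⟨⊤, F.map (inv (⊤ : Subobject X).arrow) x, by
    rw [← Functor.map_comp_apply, IsIso.inv_hom_id, Functor.map_id_apply]⟩
  obtain ⟨P, ⟨p, hp⟩, hmin⟩ := (wellFounded_lt (α := Subobject X)).has_min s hs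
  refine ⟨⟨(P : C), p⟩, fun Y i _ y hy => ?_, P.arrow, hp⟩
  change Y ⟶ (P : C) at i
  have hmem : Subobject.mk (i ≫ P.arrow) ∈ s :=
    ⟨F.map (Subobject.underlyingIso (i ≫ P.arrow)).inv y, by
      rw [← Functor.map_comp_apply, Subobject.underlyingIso_arrow, Functor.map_comp_apply, hy]
      exact hp⟩
  have hle : Subobject.mk (i ≫ P.arrow) ≤ P := Subobject.mk_le_of_comm i rfl
  have heq : Subobject.mk (i ≫ P.arrow) = Subobject.mk P.arrow := by
    rw [Subobject.mk_arrow]
    exact hle.eq_or_lt.resolve_right (hmin _ hmem)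
  have : i = (Subobject.isoOfMkEqMk _ _ heq).hom := by
    rw [← cancel_mono P.arrow]
    simp [Subobject.isoOfMkEqMk]
  rw [this]
  infer_instance

variable (F) in
/-- The indexing category. -/
abbrev Min : Type u := (IsMinimal F).FullSubcategory

/-- A morphism of indices from an equation. -/
def minHom {a b : Min F} (f : a.obj.1 ⟶ b.obj.1) (h : F.map f a.obj.2 = b.obj.2) : a ⟶ b :=
  ObjectProperty.homMk (⟨f, h⟩ : a.obj ⟶ b.obj)

theorem min_hom_subsingleton {a b : Min F} (f g : a ⟶ b) : f = g :=
  ObjectProperty.hom_ext _ (CategoryOfElements.ext _ _ _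
    (a.property.hom_eq f.hom.val g.hom.val (f.hom.2.trans g.hom.2.symm)))

include hart in
theorem exists_span (a b : Min F) : ∃ c : Min F, Nonempty (c ⟶ a) ∧ Nonempty (c ⟶ b) := by
  obtain ⟨w, hw⟩ : ∃ w : F.obj (a.obj.1 ⨯ b.obj.1),
      F.map prod.fst w = a.obj.2 ∧ F.map prod.snd w = b.obj.2 := by
      let h := mapIsLimitOfPreservesOfIsLimit F (prod.fst : a.obj.1 ⨯ b.obj.1 ⟶ _) prod.snd (prodIsProd _ _)
      let t : BinaryFan (F.obj a.obj.1) (F.obj b.obj.1) :=
        BinaryFan.mk (P := PUnit) (↾fun _ => a.obj.2) (↾fun _ => b.obj.2)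
      exact ⟨h.lift t PUnit.unit, ConcreteCategory.congr_hom (h.fac t ⟨WalkingPair.left⟩) PUnit.unit,
        ConcreteCategory.congr_hom (h.fac t ⟨WalkingPair.right⟩) PUnit.unit⟩
  obtain ⟨e, he, f, hf⟩ := exists_minimal hart w
  exact ⟨⟨e, he⟩, ⟨minHom (f ≫ prod.fst) (by rw [Functor.map_comp_apply, hf, hw.1])⟩,
    ⟨minHom (f ≫ prod.snd) (by rw [Functor.map_comp_apply, hf, hw.2])⟩⟩

include hart in
theorem min_nonempty : Nonempty (Min F) := by
  have h := Types.isTerminalEquivUnique _
    (IsTerminal.isTerminalObj F (⊤_ C) terminalIsTerminal)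
  obtain ⟨e, he, -⟩ := exists_minimal hart h.default
  exact ⟨⟨e, he⟩⟩

include hart in
theorem min_isCofiltered : IsCofiltered (Min F) :=
  have : IsCofilteredOrEmpty (Min F) :=
    { cone_objs := fun a b => by
        obtain ⟨c, ⟨f⟩, ⟨g⟩⟩ := exists_span hart a b
        exact ⟨c, f, g, trivial⟩
      cone_maps := fun a _ f g => ⟨a, 𝟙 a, by rw [min_hom_subsingleton f g]⟩ }
  { nonempty := min_nonempty hart }

variable (F) in
/-- The diagram. -/
def diag : Min F ⥤ C := (IsMinimal F).ι ⋙ CategoryOfElements.π F

/-- The tautological cocone. -/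
def coconeMin : Cocone ((diag F).op ⋙ coyoneda) where
  pt := F
  ι :=
    { app := fun j =>
        { app := fun Z => ↾fun f => F.map f j.unop.obj.2
          naturality := fun Z Z' g => by
            ext f
            exact Functor.map_comp_apply F f g _ }
      naturality := fun j j' a => by
        ext Z f
        show F.map (a.unop.hom.val ≫ f) j'.unop.obj.2 = F.map f j.unop.obj.2
        rw [Functor.map_comp_apply, a.unop.hom.2]
        rfl }

include hart in
theorem nonempty_iso_colimit : Nonempty (F ≅ colimit ((diag F).op ⋙ coyoneda)) := by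
  have := min_isCofiltered (F := F) hart
  have h : IsColimit (coconeMin (F := F)) := evaluationJointlyReflectsColimits _ fun Z =>
    Types.FilteredColimit.isColimitOf _ _
      (fun z => by
        change F.obj Z at z
        obtain ⟨e, he, f, hf⟩ := exists_minimal hart z
        exact ⟨op ⟨e, he⟩, f, hf.symm⟩)
      (fun i j f g h => by
        change i.unop.obj.1 ⟶ Z at f
        change j.unop.obj.1 ⟶ Z at g
        change F.map f i.unop.obj.2 = F.map g j.unop.obj.2 at h
        obtain ⟨c, ⟨a⟩, ⟨b⟩⟩ := exists_span hart i.unop j.unop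
        refine ⟨op c, a.op, b.op, ?_⟩
        show a.hom.val ≫ f = b.hom.val ≫ g
        refine c.property.hom_eq _ _ ?_
        rw [Functor.map_comp_apply, Functor.map_comp_apply, a.hom.2, b.hom.2, h])
  exact ⟨h.coconePointUniqueUpToIso (colimit.isColimit _)⟩

end Groth.Agent.FGA50
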